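import Groth.Agent.Lib.RHomO.Derived
import Groth.Agent.Lib.DerivedOX.PullComp
import Groth.Agent.Lib.DerivedOX.Exists
import Groth.Prelude.Def_DualFM

/-!
# The diagonal kernel gives the identity
-/

set_option autoImplicit false
set_option linter.style.haveILetI false

universe u

open CategoryTheory Limits AlgebraicGeometry HomologicalComplex

attribute [local instance] HasDerivedCategory.standard

namespace Groth.Agent.Lib.H15.DiagKernel

open Groth.Agent.Lib Groth.Agent.Lib.DerivedOX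

instance preservesFiniteLimits_push {Z X : Scheme.{u}} (i : Z ⟶ X) :
    PreservesFiniteLimits (Scheme.Modules.pushforward i) := by
  haveI : (Scheme.Modules.pushforward i).IsRightAdjoint :=
    (Scheme.Modules.pullbackPushforwardAdjunction i).isRightAdjoint
  haveI : PreservesLimitsOfSize.{0, 0} (Scheme.Modules.pushforward i) := inferInstance
  exact PreservesLimitsOfSize.preservesFiniteLimits _

instance preservesFiniteColimits_push {Z X : Scheme.{u}} (i : Z ⟶ X) [IsClosedImmersion i] :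
    PreservesFiniteColimits (Scheme.Modules.pushforward i) := by
  haveI := PushClosed.Basic.pushforward_isLeftAdjoint i
  haveI : PreservesColimitsOfSize.{0, 0} (Scheme.Modules.pushforward i) := inferInstance
  exact PreservesColimitsOfSize.preservesFiniteColimits _

variable {X : Scheme.{u}}

theorem nonempty_Rpush_id [DCoh.HasRpush (𝟙 X)] :
    Nonempty (DCoh.Rpush (𝟙 X) ≅ 𝟭 (DCoh.D X)) := by
  obtain ⟨ε⟩ := RHomO.Derived.nonempty_Rpush_iso (𝟙 X)
  let W := HomologicalComplex.quasiIso X.Modules (ComplexShape.up ℤ)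
  letI : Localization.Lifting DerivedCategory.Q W
      (DerivedCategory.Q ⋙ Dual3.pushD (𝟙 X)) (Dual3.pushD (𝟙 X)) := ⟨Iso.refl _⟩
  letI : Localization.Lifting DerivedCategory.Q W (DerivedCategory.Q (C := X.Modules)) (𝟭 _) :=
    ⟨Functor.rightUnitor _⟩
  exact ⟨ε ≪≫ Localization.liftNatIso DerivedCategory.Q W (DerivedCategory.Q ⋙ Dual3.pushD (𝟙 X))
    DerivedCategory.Q _ _ ((Scheme.Modules.pushforward (𝟙 X)).mapDerivedCategoryFactors ≪≫
      Functor.isoWhiskerRight (NatIso.mapHomologicalComplex (Scheme.Modules.pushforwardId X)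
        (ComplexShape.up ℤ) ≪≫ Functor.mapHomologicalComplexIdIso _ _) DerivedCategory.Q ≪≫
      Functor.leftUnitor _)⟩

theorem nonempty_Lpull_id [DCoh.HasLpull (𝟙 X)] :
    Nonempty (DCoh.Lpull (𝟙 X) ≅ 𝟭 (DCoh.D X)) := by
  haveI := Exists.hasRpush (𝟙 X)
  obtain ⟨e⟩ := nonempty_Rpush_id (X := X)
  exact ⟨((PullPushAdj.derivedAdjunction (𝟙 X)).ofNatIsoRight e).leftAdjointUniq Adjunction.id⟩

theorem nonempty_comp_id (f g : X ⟶ X) (hf : f = 𝟙 X) (hg : g = 𝟙 X) [DCoh.HasLpull f]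
    [DCoh.HasRpush g] : Nonempty (DCoh.Lpull f ⋙ DCoh.Rpush g ≅ 𝟭 (DCoh.D X)) := by
  subst hf hg
  obtain ⟨a⟩ := nonempty_Lpull_id (X := X)
  obtain ⟨b⟩ := nonempty_Rpush_id (X := X)
  exact ⟨NatIso.hcomp a b⟩

theorem nonempty_iso {S : Scheme.{u}} (a : X ⟶ S) [IsSeparated a]
    (K : CochainComplex (pullback a a).Modules ℤ) (hK : Nonempty (DCoh.toD _ K ≅ FMK.diagO a))
    [DCoh.HasLpull (pullback.fst a a)] [DCoh.HasLTensorCx K] [DCoh.HasRpush (pullback.snd a a)] :
    Nonempty (FMK.phi a a K ≅ 𝟭 (DCoh.D X)) := by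
  obtain ⟨hK⟩ := hK
  let Δ := pullback.diagonal a
  haveI := LeftExists.hasLpull Δ
  haveI := Exists.hasRpush Δ
  haveI := LeftExists.hasLpull (Δ ≫ pullback.fst a a)
  haveI := Exists.hasRpush (Δ ≫ pullback.snd a a)
  obtain ⟨p⟩ := RHomO.Derived.nonempty_projIso Δ K hK
  obtain ⟨ε⟩ := RHomO.Derived.nonempty_Rpush_iso Δ
  obtain ⟨c⟩ := nonempty_comp_id (Δ ≫ pullback.fst a a) (Δ ≫ pullback.snd a a)
    (pullback.diagonal_fst a) (pullback.diagonal_snd a)
  exact ⟨Functor.isoWhiskerLeft (DCoh.Lpull (pullback.fst a a))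
      (Functor.isoWhiskerRight (p.symm ≪≫ Functor.isoWhiskerLeft (DCoh.Lpull Δ) ε.symm)
        (DCoh.Rpush (pullback.snd a a)) ≪≫ Functor.associator _ _ _ ≪≫
        Functor.isoWhiskerLeft (DCoh.Lpull Δ) (PullComp.rpushCompIso Δ (pullback.snd a a))) ≪≫
    (Functor.associator _ _ _).symm ≪≫
    Functor.isoWhiskerRight (PullComp.lpullCompIso Δ (pullback.fst a a))
      (DCoh.Rpush (Δ ≫ pullback.snd a a)) ≪≫ c⟩

end Groth.Agent.Lib.H15.DiagKernel
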